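import Groth.Agent.BiratSpreadLib.Basic
import Groth.Agent.SpreadFPLib.Basic
import Groth.Agent.S4599

/-!
# Local isomorphisms from isomorphisms of local rings
-/

set_option autoImplicit false
set_option linter.style.haveILetI false

universe u

open CategoryTheory CategoryTheory.Limits AlgebraicGeometry TopologicalSpace

namespace BiratFPLib

variable {S X Y : Scheme.{u}}

theorem closedPoint_specMap {A B : CommRingCat.{u}} [IsLocalRing A] [IsLocalRing B] (φ : A ⟶ B)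
    [IsLocalHom φ.hom] : Spec.map φ (IsLocalRing.closedPoint B) = IsLocalRing.closedPoint A :=
  IsLocalRing.comap_closedPoint φ.hom

/-- Two maps to a scheme locally of finite type agreeing on the local ring at a point agree nearby. -/
theorem eq_near (sY : Y ⟶ S) [LocallyOfFiniteType sY] {W : Scheme.{u}} (a b : W ⟶ Y)
    (h : a ≫ sY = b ≫ sY) (x : W) (hx : W.fromSpecStalk x ≫ a = W.fromSpecStalk x ≫ b) :
    ∃ W' : W.Opens, x ∈ W' ∧ W'.ι ≫ a = W'.ι ≫ b := by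
  haveI : LocallyOfFinitePresentation (pullback.diagonal sY) := Groth.Agent.S4599.result sY
  let p : W ⟶ pullback sY sY := pullback.lift a b h
  let ι := pullback.fst p (pullback.diagonal sY)
  have hι : ι ≫ a = ι ≫ b := by
    have h1 := congrArg (· ≫ pullback.fst sY sY) (pullback.condition (f := p) (g := pullback.diagonal sY))
    have h2 := congrArg (· ≫ pullback.snd sY sY) (pullback.condition (f := p) (g := pullback.diagonal sY))
    simp only [p, Category.assoc, pullback.lift_fst, pullback.lift_snd, pullback.diagonal_fst,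
      pullback.diagonal_snd, Category.comp_id] at h1 h2
    exact h1.trans h2.symm
  let φ : Spec (W.presheaf.stalk x) ⟶ pullback p (pullback.diagonal sY) :=
    pullback.lift (W.fromSpecStalk x) (W.fromSpecStalk x ≫ a) (by
      apply pullback.hom_ext <;>
        simp only [p, Category.assoc, pullback.lift_fst, pullback.lift_snd, pullback.diagonal_fst,
          pullback.diagonal_snd, Category.comp_id]
      exact hx.symm)
  obtain ⟨W', hxW', f, -, hf⟩ := SpreadFPLib.spread_out (𝟙 W) ι φ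
    ((pullback.lift_fst _ _ _).trans (Category.comp_id _).symm)
  refine ⟨W', hxW', ?_⟩
  have hf' : f ≫ ι = W'.ι := hf.trans (Category.comp_id _)
  rw [← hf', Category.assoc, Category.assoc, hι]

/-- If `f` and `g` are inverse to each other on local rings, `f ≫ g` is the identity nearby. -/
theorem exists_open_comp_eq (sX : X ⟶ S) (sY : Y ⟶ S) [LocallyOfFiniteType sX] {x : X} {y : Y}
    {U₁ : X.Opens} (hx : x ∈ U₁) (f : U₁.toScheme ⟶ Y) (hf : f ≫ sY = U₁.ι ≫ sX)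
    {V₁ : Y.Opens} (hy : y ∈ V₁) (g : V₁.toScheme ⟶ X) (hg : g ≫ sX = V₁.ι ≫ sY)
    (hfy : f ⟨x, hx⟩ = y) (α : Spec (X.presheaf.stalk x) ⟶ Spec (Y.presheaf.stalk y))
    (β : Spec (Y.presheaf.stalk y) ⟶ Spec (X.presheaf.stalk x))
    (hα : U₁.fromSpecStalkOfMem x hx ≫ f = α ≫ Y.fromSpecStalk y)
    (hβ : V₁.fromSpecStalkOfMem y hy ≫ g = β ≫ X.fromSpecStalk x) (hαβ : α ≫ β = 𝟙 _) :
    ∃ (W : X.Opens) (hW : W ≤ U₁) (k : W.toScheme ⟶ V₁.toScheme), x ∈ W ∧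
      k ≫ V₁.ι = X.homOfLE hW ≫ f ∧ k ≫ g = W.ι := by
  let U₀ := U₁.ι ''ᵁ f ⁻¹ᵁ V₁
  have hU₀ : U₀ ≤ U₁ := U₁.ι_image_le _
  have hxU₀ : x ∈ U₀ := ⟨⟨x, hx⟩, show f ⟨x, hx⟩ ∈ V₁ from hfy ▸ hy, rfl⟩
  let k₀ : U₀.toScheme ⟶ V₁.toScheme := (U₁.ι.isoImage (f ⁻¹ᵁ V₁)).inv ≫ f ∣_ V₁
  have hk₀ : k₀ ≫ V₁.ι = X.homOfLE hU₀ ≫ f := by
    simp only [k₀, Category.assoc, morphismRestrict_ι]
    rw [← Category.assoc]
    congr 1
    rw [← cancel_mono U₁.ι, Category.assoc, Scheme.homOfLE_ι]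
    exact U₁.ι.isoImage_inv_ι _
  have hst : U₀.fromSpecStalkOfMem x hxU₀ ≫ k₀ = α ≫ V₁.fromSpecStalkOfMem y hy := by
    rw [← cancel_mono V₁.ι, Category.assoc, hk₀, Category.assoc,
      Scheme.Opens.fromSpecStalkOfMem_ι, ← Category.assoc,
      Groth.Agent.BiratSpreadLib.fromSpecStalkOfMem_homOfLE]
    exact hα
  have h : (k₀ ≫ g) ≫ sX = U₀.ι ≫ sX := by
    rw [Category.assoc, hg, ← Category.assoc, hk₀, Category.assoc, hf, Scheme.homOfLE_ι_assoc]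
  obtain ⟨W', hxW', e⟩ := eq_near sX (k₀ ≫ g) U₀.ι h ⟨x, hxU₀⟩ (by
    rw [← cancel_epi (Spec.map (inv (U₀.ι.stalkMap ⟨x, hxU₀⟩)))]
    show _ ≫ U₀.toScheme.fromSpecStalk _ ≫ _ = _
    rw [← Category.assoc, ← Category.assoc _ _ U₀.ι]
    show U₀.fromSpecStalkOfMem x hxU₀ ≫ k₀ ≫ g = U₀.fromSpecStalkOfMem x hxU₀ ≫ U₀.ι
    rw [← Category.assoc, hst, Category.assoc, hβ, ← Category.assoc, hαβ, Category.id_comp,
      Scheme.Opens.fromSpecStalkOfMem_ι])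
  refine ⟨U₀.ι ''ᵁ W', (U₀.ι_image_le _).trans hU₀, (U₀.ι.isoImage W').inv ≫ W'.ι ≫ k₀,
    ⟨⟨x, hxU₀⟩, hxW', rfl⟩, ?_, ?_⟩
  · simp only [Category.assoc, hk₀]
    simp only [← Category.assoc]
    congr 1
    rw [← cancel_mono U₁.ι]
    simp only [Category.assoc, Scheme.homOfLE_ι]
    exact U₀.ι.isoImage_inv_ι _
  · simp only [Category.assoc]
    rw [e]
    exact U₀.ι.isoImage_inv_ι _

/-- Maps inverse to each other on local rings restrict to an isomorphism of neighbourhoods. -/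
theorem exists_iso_of_maps (sX : X ⟶ S) (sY : Y ⟶ S) [LocallyOfFiniteType sX] [LocallyOfFiniteType sY]
    {x : X} {y : Y} {U₁ : X.Opens} (hx : x ∈ U₁) (f : U₁.toScheme ⟶ Y) (hf : f ≫ sY = U₁.ι ≫ sX)
    {V₁ : Y.Opens} (hy : y ∈ V₁) (g : V₁.toScheme ⟶ X) (hg : g ≫ sX = V₁.ι ≫ sY)
    (hfy : f ⟨x, hx⟩ = y) (hgx : g ⟨y, hy⟩ = x)
    (α : Spec (X.presheaf.stalk x) ⟶ Spec (Y.presheaf.stalk y))
    (β : Spec (Y.presheaf.stalk y) ⟶ Spec (X.presheaf.stalk x))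
    (hα : U₁.fromSpecStalkOfMem x hx ≫ f = α ≫ Y.fromSpecStalk y)
    (hβ : V₁.fromSpecStalkOfMem y hy ≫ g = β ≫ X.fromSpecStalk x)
    (hαβ : α ≫ β = 𝟙 _) (hβα : β ≫ α = 𝟙 _) :
    ∃ (U : X.Opens) (V : Y.Opens) (θ : U.toScheme ≅ V.toScheme) (hU : U ≤ U₁), x ∈ U ∧ y ∈ V ∧
      θ.hom ≫ V.ι = X.homOfLE hU ≫ f := by
  obtain ⟨W, hW, k, hxW, hk, hkg⟩ := exists_open_comp_eq sX sY hx f hf hy g hg hfy α β hα hβ hαβ
  obtain ⟨W', hW', k', hyW', hk', hk'f⟩ := exists_open_comp_eq sY sX hy g hg hx f hf hgx β α hβ hα hβα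
  let a : W.toScheme ⟶ Y := X.homOfLE hW ≫ f
  let b : W'.toScheme ⟶ X := Y.homOfLE hW' ≫ g
  have hax : a ⟨x, hxW⟩ = y := by
    rw [Scheme.Hom.comp_apply]
    exact (congrArg f (Subtype.ext (by rw [Scheme.homOfLE_base]; rfl))).trans hfy
  have hby : b ⟨y, hyW'⟩ = x := by
    rw [Scheme.Hom.comp_apply]
    exact (congrArg g (Subtype.ext (by rw [Scheme.homOfLE_base]; rfl))).trans hgx
  have ha : (a ∣_ W') ≫ b = (a ⁻¹ᵁ W').ι ≫ W.ι := by
    have h1 : (a ∣_ W') ≫ Y.homOfLE hW' = (a ⁻¹ᵁ W').ι ≫ k := by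
      rw [← cancel_mono V₁.ι, Category.assoc, Scheme.homOfLE_ι, morphismRestrict_ι, Category.assoc, hk]
    rw [← Category.assoc, h1, Category.assoc, hkg]
  have hb : (b ∣_ W) ≫ a = (b ⁻¹ᵁ W).ι ≫ W'.ι := by
    have h1 : (b ∣_ W) ≫ X.homOfLE hW = (b ⁻¹ᵁ W).ι ≫ k' := by
      rw [← cancel_mono U₁.ι, Category.assoc, Scheme.homOfLE_ι, morphismRestrict_ι, Category.assoc, hk']
    rw [← Category.assoc, h1, Category.assoc, hk'f]
  let θ := (W.ι.isoImage (a ⁻¹ᵁ W')).symm ≪≫ Groth.Agent.BiratSpreadLib.overlapIso a b ha hb ≪≫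
    W'.ι.isoImage (b ⁻¹ᵁ W)
  refine ⟨W.ι ''ᵁ a ⁻¹ᵁ W', W'.ι ''ᵁ b ⁻¹ᵁ W, θ, (W.ι_image_le _).trans hW,
    ⟨⟨x, hxW⟩, (show a ⟨x, hxW⟩ ∈ W' from hax ▸ hyW'), rfl⟩,
    ⟨⟨y, hyW'⟩, (show b ⟨y, hyW'⟩ ∈ W from hby ▸ hxW), rfl⟩, ?_⟩
  have hι : (Groth.Agent.BiratSpreadLib.overlapIso a b ha hb).hom ≫ (b ⁻¹ᵁ W).ι = a ∣_ W' :=
    IsOpenImmersion.lift_fac _ _ _
  simp only [θ, Iso.trans_hom, Iso.symm_hom, Category.assoc, Scheme.Hom.isoImage_hom_ι]
  rw [reassoc_of% hι, morphismRestrict_ι]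
  simp only [a, ← Category.assoc]
  congr 1
  rw [← cancel_mono U₁.ι]
  simp only [Category.assoc, Scheme.homOfLE_ι]
  exact W.ι.isoImage_inv_ι _

theorem hom_apply_mem {U : X.Opens} {T : Scheme.{u}} (x : X) (hx : x ∈ U) (h : U.toScheme ⟶ T) :
    h ⟨x, hx⟩ = (U.fromSpecStalkOfMem x hx ≫ h) (IsLocalRing.closedPoint _) := by
  rw [Scheme.Hom.comp_apply]
  congr 1
  refine Subtype.ext ?_
  show x = (U.fromSpecStalkOfMem x hx ≫ U.ι) (IsLocalRing.closedPoint _)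
  rw [Scheme.Opens.fromSpecStalkOfMem_ι, Scheme.fromSpecStalk_closedPoint]

/-- An isomorphism of local rings over the base spreads out to neighbourhoods. -/
theorem exists_iso_of_stalk (sX : X ⟶ S) (sY : Y ⟶ S) [LocallyOfFinitePresentation sX]
    [LocallyOfFinitePresentation sY] (x : X) (y : Y) (hs : sX x = sY y)
    (e : X.presheaf.stalk x ≅ Y.presheaf.stalk y)
    (he : sX.stalkMap x ≫ e.hom = eqToHom (congrArg S.presheaf.stalk hs) ≫ sY.stalkMap y) :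
    ∃ (U : X.Opens) (V : Y.Opens) (θ : U.toScheme ≅ V.toScheme), x ∈ U ∧ y ∈ V ∧
      θ.hom ≫ V.ι ≫ sY = U.ι ≫ sX := by
  have cong : ∀ {s s' : S} (h : s = s'),
      Spec.map (eqToHom (congrArg S.presheaf.stalk h)) ≫ S.fromSpecStalk s =
        S.fromSpecStalk s' := fun {s s'} h => by subst h; simp
  have hα : (Spec.map e.inv ≫ Y.fromSpecStalk y) ≫ sY = X.fromSpecStalk x ≫ sX := by
    have hrel : sY.stalkMap y ≫ e.inv =
        eqToHom (congrArg S.presheaf.stalk hs.symm) ≫ sX.stalkMap x := by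
      rw [← cancel_mono e.hom, Category.assoc, Category.assoc, e.inv_hom_id, Category.comp_id, he,
        eqToHom_trans_assoc, eqToHom_refl, Category.id_comp]
    rw [Category.assoc, ← Scheme.SpecMap_stalkMap_fromSpecStalk, ← Spec.map_comp_assoc, hrel,
      Spec.map_comp, Category.assoc, cong hs.symm, Scheme.SpecMap_stalkMap_fromSpecStalk]
  have hβ : (Spec.map e.hom ≫ X.fromSpecStalk x) ≫ sX = Y.fromSpecStalk y ≫ sY := by
    rw [Category.assoc, ← Scheme.SpecMap_stalkMap_fromSpecStalk, ← Spec.map_comp_assoc, he,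
      Spec.map_comp, Category.assoc, cong hs, Scheme.SpecMap_stalkMap_fromSpecStalk]
  obtain ⟨U₁, hx, f, hf₁, hf⟩ := SpreadFPLib.spread_out sX sY _ hα
  obtain ⟨V₁, hy, g, hg₁, hg⟩ := SpreadFPLib.spread_out sY sX _ hβ
  have hfy : f ⟨x, hx⟩ = y := by
    rw [hom_apply_mem x hx, ← hf₁, Scheme.Hom.comp_apply, closedPoint_specMap,
      Scheme.fromSpecStalk_closedPoint]
  have hgx : g ⟨y, hy⟩ = x := by
    rw [hom_apply_mem y hy, ← hg₁, Scheme.Hom.comp_apply, closedPoint_specMap,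
      Scheme.fromSpecStalk_closedPoint]
  obtain ⟨U, V, θ, hU, hxU, hyV, hθ⟩ := exists_iso_of_maps sX sY hx f hf hy g hg hfy hgx
    (Spec.map e.inv) (Spec.map e.hom) hf₁.symm hg₁.symm
    (by rw [← Spec.map_comp, e.hom_inv_id, Spec.map_id]) (by rw [← Spec.map_comp, e.inv_hom_id, Spec.map_id])
  refine ⟨U, V, θ, hxU, hyV, ?_⟩
  rw [reassoc_of% hθ, hf, Scheme.homOfLE_ι_assoc]

/-- A morphism with a local section inverse to it on the local ring is a local isomorphism. -/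
theorem exists_nhd_isOpenImmersion (f : X ⟶ Y) [LocallyOfFiniteType f] (x : X) [IsIso (f.stalkMap x)]
    (hsp : ∀ φ : Spec (Y.presheaf.stalk (f x)) ⟶ X, φ ≫ f = Y.fromSpecStalk (f x) ≫ 𝟙 Y →
      ∃ (V : Y.Opens) (hV : f x ∈ V) (g : V.toScheme ⟶ X),
        φ = V.fromSpecStalkOfMem (f x) hV ≫ g ∧ g ≫ f = V.ι ≫ 𝟙 Y) :
    ∃ U : X.Opens, x ∈ U ∧ IsOpenImmersion (U.ι ≫ f) := by
  obtain ⟨V₁, hy, g, hg₁, hg⟩ := hsp (Spec.map (inv (f.stalkMap x)) ≫ X.fromSpecStalk x) (by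
    rw [Category.assoc, ← Scheme.SpecMap_stalkMap_fromSpecStalk, ← Spec.map_comp_assoc,
      IsIso.hom_inv_id, Spec.map_id, Category.id_comp, Category.comp_id])
  have hgx : g ⟨f x, hy⟩ = x := by
    rw [hom_apply_mem (f x) hy, ← hg₁, Scheme.Hom.comp_apply, closedPoint_specMap,
      Scheme.fromSpecStalk_closedPoint]
  obtain ⟨U, V, θ, hU, hxU, -, hθ⟩ := exists_iso_of_maps f (𝟙 Y) (U₁ := ⊤) (x := x) trivial
    ((⊤ : X.Opens).ι ≫ f) (by simp) hy g hg rfl hgx (Spec.map (f.stalkMap x))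
    (Spec.map (inv (f.stalkMap x)))
    (by rw [← Category.assoc, Scheme.Opens.fromSpecStalkOfMem_ι, Scheme.SpecMap_stalkMap_fromSpecStalk])
    hg₁.symm (by rw [← Spec.map_comp, IsIso.inv_hom_id, Spec.map_id])
    (by rw [← Spec.map_comp, IsIso.hom_inv_id, Spec.map_id])
  refine ⟨U, hxU, ?_⟩
  rw [show U.ι ≫ f = θ.hom ≫ V.ι by rw [hθ, Scheme.homOfLE_ι_assoc]]
  infer_instance

end BiratFPLib
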