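import Groth.Agent.BiratFPLib.Basic
import Groth.Agent.FFDescLib.Closure

/-!
# Birational morphisms are isomorphisms over dense opens
-/

set_option autoImplicit false
set_option linter.style.haveILetI false

universe u

open CategoryTheory CategoryTheory.Limits AlgebraicGeometry TopologicalSpace

namespace BiratFPLib

/-- The generic points of the irreducible components. -/
def genPts (X : Scheme.{u}) : Set X := {x | closure {x} ∈ irreducibleComponents ↥X}

variable {X Y : Scheme.{u}} (f : X ⟶ Y)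

theorem exists_genPts_specializes (z : X) : ∃ x ∈ genPts X, x ⤳ z := by
  obtain ⟨x, hx⟩ := QuasiSober.sober (isIrreducible_irreducibleComponent (x := z))
    isClosed_irreducibleComponent
  refine ⟨x, ?_, hx.specializes mem_irreducibleComponent⟩
  show closure {x} ∈ irreducibleComponents ↥X
  rw [hx.def]
  exact irreducibleComponent_mem_irreducibleComponents z

theorem genPts_eq_of_specializes {y z : X} (hy : y ∈ genPts X) (h : z ⤳ y) : z = y := by
  have h1 : closure {y} ⊆ closure {z} := specializes_iff_closure_subset.1 h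
  have h2 : closure {z} ⊆ closure {y} := hy.2 isIrreducible_singleton.closure h1
  exact (h.antisymm (specializes_iff_closure_subset.2 h2)).eq

theorem dense_of_genPts {U : Set X} (h : genPts X ⊆ U) : Dense U := fun z => by
  obtain ⟨x, hx, hxz⟩ := exists_genPts_specializes z
  exact (specializes_iff_mem_closure.1 hxz |> closure_mono (Set.singleton_subset_iff.2 (h hx)))

/-- Pairwise disjoint neighbourhoods of the generic points. -/
def sepNhd (hYfin : (irreducibleComponents ↥Y).Finite) (y : Y) : Y.Opens :=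
  ⟨(⋃₀ (irreducibleComponents ↥Y \ {closure {y}}))ᶜ,
    (Set.sUnion_eq_biUnion (s := irreducibleComponents ↥Y \ {closure {y}}) ▸
      (Set.Finite.subset hYfin Set.sdiff_subset).isClosed_biUnion
      fun C hC => isClosed_of_mem_irreducibleComponents C hC.1).isOpen_compl⟩

theorem mem_sepNhd (hYfin : (irreducibleComponents ↥Y).Finite) {y : Y} (hy : y ∈ genPts Y) :
    y ∈ sepNhd hYfin y := by
  rintro ⟨C, ⟨hC, hne⟩, hyC⟩
  have h : closure {y} ⊆ C :=
    (isClosed_of_mem_irreducibleComponents C hC).closure_subset_iff.2 (Set.singleton_subset_iff.2 hyC)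
  exact hne (Set.mem_singleton_iff.2 (Set.Subset.antisymm (hy.2 hC.1 h) h))

theorem genPt_specializes_of_mem (hYfin : (irreducibleComponents ↥Y).Finite) {y z : Y}
    (hz : z ∈ sepNhd hYfin y) : y ⤳ z := by
  by_contra h
  obtain ⟨w, hw, hwz⟩ := exists_genPts_specializes z
  refine hz ⟨closure {w}, ⟨hw, fun he => h ?_⟩, specializes_iff_mem_closure.1 hwz⟩
  rw [specializes_iff_mem_closure, ← Set.mem_singleton_iff.1 he]
  exact specializes_iff_mem_closure.1 hwz

theorem sepNhd_disjoint (hYfin : (irreducibleComponents ↥Y).Finite) {y y' z : Y} (hy : y ∈ genPts Y)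
    (hy' : y' ∈ genPts Y) (hz : z ∈ sepNhd hYfin y) (hz' : z ∈ sepNhd hYfin y') : y = y' := by
  by_contra hne
  refine hz' ⟨closure {y}, ⟨hy, fun he => hne ?_⟩,
    specializes_iff_mem_closure.1 (genPt_specializes_of_mem hYfin hz)⟩
  exact genPts_eq_of_specializes hy' (specializes_iff_mem_closure.2
    (by rw [Set.mem_singleton_iff.1 he]; exact subset_closure rfl))

theorem isGermInjectiveAt_genPt [IsReduced Y] (hYfin : (irreducibleComponents ↥Y).Finite) {y : Y}
    (hy : y ∈ genPts Y) : Y.IsGermInjectiveAt y := by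
  let O := sepNhd hYfin y
  have hyO : y ∈ O := mem_sepNhd hYfin hy
  haveI : IrreducibleSpace O.toScheme := by
    refine (irreducibleSpace_def _).2 ?_
    have hg : IsGenericPoint (⟨y, hyO⟩ : O.toScheme) Set.univ :=
      isGenericPoint_iff_specializes.2 fun z =>
        iff_of_true (O.ι.isOpenEmbedding.isInducing.specializes_iff.1
          (genPt_specializes_of_mem hYfin z.2)) trivial
    exact hg.isIrreducible
  haveI : IsIntegral O.toScheme := isIntegral_of_irreducibleSpace_of_isReduced _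
  have : Y.IsGermInjectiveAt (O.ι ⟨y, hyO⟩) := inferInstance
  exact this

/-- A birational morphism is an isomorphism between dense opens. -/
theorem exists_dense_isOpenImmersion
    (hYfin : (irreducibleComponents ↥Y).Finite)
    (hbij : Set.BijOn (fun x : X => f.base x) (genPts X) (genPts Y))
    (hiso : ∀ x ∈ genPts X, IsIso (f.stalkMap x))
    (hf : (LocallyOfFiniteType f ∧ IsReduced Y) ∨ LocallyOfFinitePresentation f) :
    ∃ U : X.Opens, genPts X ⊆ (U : Set X) ∧ IsOpenImmersion (U.ι ≫ f) ∧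
      ∀ y ∈ genPts Y, y ∈ Set.range (U.ι ≫ f) := by
  haveI : LocallyOfFiniteType f := by
    rcases hf with h | h
    exacts [h.1, inferInstance]
  have hloc : ∀ x : genPts X, ∃ U : X.Opens, (x : X) ∈ U ∧ U ≤ f ⁻¹ᵁ sepNhd hYfin (f x) ∧
      IsOpenImmersion (U.ι ≫ f) := by
    rintro ⟨x, hx⟩
    have hy : f x ∈ genPts Y := hbij.mapsTo hx
    haveI := hiso x hx
    obtain ⟨U, hxU, hU⟩ := exists_nhd_isOpenImmersion f x (by
      intro φ hφ
      rcases hf with ⟨-, hr⟩ | h
      · haveI := isGermInjectiveAt_genPt hYfin hy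
        exact spread_out_of_isGermInjective' (𝟙 Y) f φ hφ
      · exact SpreadFPLib.spread_out (𝟙 Y) f φ hφ)
    refine ⟨U ⊓ f ⁻¹ᵁ sepNhd hYfin (f x), ⟨hxU, mem_sepNhd hYfin hy⟩, inf_le_right, ?_⟩
    rw [← Scheme.homOfLE_ι X (inf_le_left : U ⊓ f ⁻¹ᵁ sepNhd hYfin (f x) ≤ U), Category.assoc]
    exact MorphismProperty.comp_mem _ _ _ inferInstance hU
  choose U hxU hUle hUoi using hloc
  let T : X.Opens := ⨆ x, U x
  have hle : ∀ x, U x ≤ T := le_iSup U
  have hgen : genPts X ⊆ (T : Set X) := fun x hx => hle ⟨x, hx⟩ (hxU ⟨x, hx⟩)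
  refine ⟨T, hgen, ?_, ?_⟩
  · let 𝒰 := Scheme.Opens.iSupOpenCover U
    refine IsOpenImmersion.of_openCover_source _ 𝒰 ?_ fun i => ?_
    · rintro ⟨a, ha⟩ ⟨b, hb⟩ (hab : f a = f b)
      obtain ⟨i, hai⟩ := Opens.mem_iSup.1 ha
      obtain ⟨j, hbj⟩ := Opens.mem_iSup.1 hb
      obtain rfl : i = j := Subtype.ext (hbij.injOn i.2 j.2 (sepNhd_disjoint hYfin (hbij.mapsTo i.2)
        (hbij.mapsTo j.2) (hUle i hai) (by rw [hab]; exact hUle j hbj)))
      haveI := hUoi i
      have : (⟨a, hai⟩ : U i) = ⟨b, hbj⟩ := ((U i).ι ≫ f).isOpenEmbedding.injective hab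
      exact Subtype.ext (congrArg (fun z : U i => z.1) this)
    · show IsOpenImmersion (X.homOfLE (hle i) ≫ T.ι ≫ f)
      rw [Scheme.homOfLE_ι_assoc]
      exact hUoi i
  · intro y hy
    obtain ⟨x, hx, rfl⟩ := hbij.surjOn hy
    exact ⟨⟨x, hgen hx⟩, rfl⟩

theorem range_ι_comp (U : X.Opens) : Set.range (U.ι ≫ f) = f '' (U : Set X) := by
  rw [Scheme.Hom.comp_base, TopCat.coe_comp, Set.range_comp, Scheme.Opens.range_ι]

theorem bijective_stalkSpecializes {a b : Y} (e : a = b) (h : a ⤳ b) :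
    Function.Bijective (Y.presheaf.stalkSpecializes h) := by
  subst e
  simp only [TopCat.Presheaf.stalkSpecializes_refl]
  exact Function.bijective_id

/-- If the stalk map at `x` is surjective, `x` is closed in its fibre. -/
theorem eq_of_specializes_of_surjective {x z : X} (h : x ⤳ z) (hfz : f z = f x)
    (hsurj : Function.Surjective (f.stalkMap x)) : x = z := by
  let sp := X.presheaf.stalkSpecializes h
  have hc : f x ⤳ f z := h.map f.continuous
  let c := Y.presheaf.stalkSpecializes hc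
  have hcb : Function.Bijective c := bijective_stalkSpecializes hfz.symm hc
  have hcomm : ∀ r, f.stalkMap x (c r) = sp (f.stalkMap z r) := fun r =>
    Scheme.Hom.stalkSpecializes_stalkMap_apply f x z h r
  haveI : IsLocalHom sp.hom := by
    constructor
    intro b hb
    obtain ⟨r, hr⟩ := hsurj (sp b)
    obtain ⟨r', rfl⟩ := hcb.2 r
    rw [hcomm] at hr
    by_contra hb'
    have hm : b - f.stalkMap z r' ∈ RingHom.ker sp.hom := by
      rw [RingHom.mem_ker, map_sub]
      exact sub_eq_zero.2 hr.symm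
    have hker : RingHom.ker sp.hom ≤ IsLocalRing.maximalIdeal _ :=
      IsLocalRing.le_maximalIdeal (RingHom.ker_ne_top _)
    have hr' : f.stalkMap z r' ∈ IsLocalRing.maximalIdeal _ := by
      have := Ideal.sub_mem _ ((IsLocalRing.mem_maximalIdeal b).2 hb') (hker hm)
      rwa [sub_sub_cancel] at this
    refine (IsLocalRing.mem_maximalIdeal _).1 hr' (IsUnit.map (f.stalkMap z).hom ?_)
    have h2 : IsUnit (f.stalkMap x (c r')) := by rw [hcomm, hr]; exact hb
    obtain ⟨u, hu⟩ := (isUnit_map_iff (f.stalkMap x).hom _).1 h2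
    obtain ⟨v, hv⟩ := hcb.2 ↑u⁻¹
    refine IsUnit.of_mul_eq_one v (hcb.1 ?_)
    rw [map_mul, map_one, hv, ← hu, Units.mul_inv]
  have h3 := congrArg (fun p => p (IsLocalRing.closedPoint (X.presheaf.stalk x)))
    (Scheme.SpecMap_stalkSpecializes_fromSpecStalk h)
  simp only [Scheme.Hom.comp_apply, Scheme.fromSpecStalk_closedPoint] at h3
  rw [closedPoint_specMap, Scheme.fromSpecStalk_closedPoint] at h3
  exact h3.symm

theorem exists_dense_isIso_restrict {U : X.Opens} (hgen : genPts X ⊆ (U : Set X))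
    [IsOpenImmersion (U.ι ≫ f)] (hbij : Set.BijOn (fun x : X => f.base x) (genPts X) (genPts Y))
    (hiso : ∀ x ∈ genPts X, IsIso (f.stalkMap x)) (hf₁ : QuasiCompact f ∨ IsSeparated f) :
    ∃ V : Y.Opens, Dense (V : Set Y) ∧ IsIso (f ∣_ V) := by
  let V₀ := (U.ι ≫ f).opensRange
  have hV₀ : genPts Y ⊆ (V₀ : Set Y) := fun y hy => by
    obtain ⟨x, hx, rfl⟩ := hbij.surjOn hy
    exact ⟨⟨x, hgen hx⟩, rfl⟩
  suffices ∃ V : Y.Opens, genPts Y ⊆ (V : Set Y) ∧ V ≤ V₀ ∧ f ⁻¹ᵁ V ≤ U by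
    obtain ⟨V, hV, hle, hU⟩ := this
    refine ⟨V, dense_of_genPts hV, ?_⟩
    haveI : IsOpenImmersion ((f ⁻¹ᵁ V).ι ≫ f) := by
      rw [← Scheme.homOfLE_ι X hU, Category.assoc]; infer_instance
    haveI : IsOpenImmersion ((f ∣_ V) ≫ V.ι) := by rw [morphismRestrict_ι]; infer_instance
    haveI : IsOpenImmersion (f ∣_ V) := IsOpenImmersion.of_comp (f ∣_ V) V.ι
    haveI : Surjective (f ∣_ V) := ⟨fun ⟨y, hy⟩ => by
      obtain ⟨⟨a, ha⟩, rfl⟩ := hle hy
      exact ⟨⟨a, hy⟩, Subtype.ext (by rw [morphismRestrict_base]; rfl)⟩⟩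
    haveI : Epi (f ∣_ V).base := (TopCat.epi_iff_surjective _).2 (f ∣_ V).surjective
    exact IsOpenImmersion.isIso _
  rcases hf₁ with hq | hs
  · let C := closure (f '' (U : Set X)ᶜ)
    refine ⟨V₀ ⊓ ⟨Cᶜ, isClosed_closure.isOpen_compl⟩, fun y hy => ⟨hV₀ hy, fun hyC => ?_⟩, inf_le_left,
      fun a ha => by_contra fun haU => ha.2 (subset_closure ⟨a, haU, rfl⟩)⟩
    obtain ⟨z, hz, hzy⟩ := FFDescLib.exists_specializes_of_mem_closure_image f U.2.isClosed_compl hyC
    have hfz := genPts_eq_of_specializes hy hzy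
    obtain ⟨x, hx, hxz⟩ := exists_genPts_specializes z
    have hfx : f x = y := genPts_eq_of_specializes hy (hfz ▸ hxz.map f.continuous)
    haveI := hiso x hx
    obtain rfl := eq_of_specializes_of_surjective f hxz (hfz.trans hfx.symm)
      (ConcreteCategory.bijective_of_isIso (f.stalkMap x)).2
    exact hz (hgen hx)
  · refine ⟨V₀, hV₀, le_rfl, ?_⟩
    let σ : V₀.toScheme ⟶ (f ⁻¹ᵁ V₀).toScheme :=
      (IsOpenImmersion.isoOfRangeEq V₀.ι (U.ι ≫ f) (by rw [Scheme.Opens.range_ι]; rfl)).hom ≫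
        X.homOfLE (show U ≤ f ⁻¹ᵁ V₀ from fun a ha => ⟨⟨a, ha⟩, rfl⟩)
    have hσ : σ ≫ (f ∣_ V₀) = 𝟙 _ := by
      rw [← cancel_mono V₀.ι]
      simp only [σ, Category.assoc, morphismRestrict_ι, Category.id_comp]
      rw [Scheme.homOfLE_ι_assoc, IsOpenImmersion.isoOfRangeEq_hom_fac]
    haveI : IsSeparated (f ∣_ V₀) := IsZariskiLocalAtTarget.restrict hs V₀
    haveI : IsClosedImmersion σ := by
      haveI : IsClosedImmersion (σ ≫ (f ∣_ V₀)) := by rw [hσ]; infer_instance
      exact IsClosedImmersion.of_comp σ (f ∣_ V₀)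
    have hσU : ∀ v, (σ v).1 ∈ U := fun v => by
      obtain ⟨w, hw⟩ : ∃ w : U.toScheme, (IsOpenImmersion.isoOfRangeEq V₀.ι (U.ι ≫ f)
        (by rw [Scheme.Opens.range_ι]; rfl)).hom v = w := ⟨_, rfl⟩
      simp only [σ, Scheme.Hom.comp_apply, hw, Scheme.homOfLE_base]
      exact w.2
    have hUσ : ∀ a (ha : a ∈ U), ∃ v, (σ v).1 = a := fun a ha => by
      obtain ⟨v, hv⟩ := (IsOpenImmersion.isoOfRangeEq V₀.ι (U.ι ≫ f)
        (by rw [Scheme.Opens.range_ι]; rfl)).hom.surjective ⟨a, ha⟩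
      exact ⟨v, by simp only [σ, Scheme.Hom.comp_apply, hv, Scheme.homOfLE_base]; rfl⟩
    intro a ha
    by_contra haU
    have hopen : IsOpen ((f ⁻¹ᵁ V₀).ι '' (Set.range σ)ᶜ) :=
      (f ⁻¹ᵁ V₀).ι.isOpenEmbedding.isOpenMap _ σ.isClosedEmbedding.isClosed_range.isOpen_compl
    obtain ⟨w, ⟨⟨b, hb⟩, hbr, rfl⟩, hwU⟩ := (dense_of_genPts hgen).inter_open_nonempty _ hopen
      ⟨a, ⟨a, ha⟩, fun ⟨v, hv⟩ => haU (by rw [← show (σ v).1 = a from congrArg Subtype.val hv]; exact hσU v), rfl⟩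
    obtain ⟨v, hv⟩ := hUσ b hwU
    exact hbr ⟨v, Subtype.ext hv⟩

end BiratFPLib
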